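import Cfsg.Agent.S5204
import Cfsg.Agent.Lib.FusionQuot.Solvable
import Cfsg.Agent.Lib.Transfer.PGroup
import Cfsg.Agent.Lib.Fusion.CentricExtend

/-!
A non-inner saturated system over an odd prime has a normal centric subgroup of `S` with an
automorphism not induced by `S`.
-/

set_option autoImplicit false

namespace CfsgLib.FusionConstrained

open Cfsg Cfsg.FusionSystem CfsgLib.Fusion

universe u

variable {Ω : Type u} [Group Ω] {S : Subgroup Ω} {F : Cfsg.FusionSystem S} {p : ℕ}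

theorem inner_hom_congr {T : Subgroup Ω} (h : S = T) (P : Subgroup Ω) :
    (Cfsg.innerFusionSystem S).Hom P = (Cfsg.innerFusionSystem T).Hom P := by
  subst h
  rfl

/-- A normal centric subgroup with an outer automorphism in the system. -/
def HasOuter (F : Cfsg.FusionSystem S) : Prop :=
  ∃ R : Subgroup Ω, R ≤ S ∧ S ≤ Subgroup.normalizer (R : Set Ω) ∧ centralizerIn S R ≤ R ∧
    ∃ α ∈ F.autGroup R, α ∉ autInducedBy S R

theorem normalizerIn_eq_self {R : Subgroup Ω} (h : S ≤ Subgroup.normalizer (R : Set Ω)) :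
    normalizerIn S R = S :=
  le_antisymm (normalizerIn_le S R) (le_inf le_rfl h)

theorem isFullyNormalized_of_normal [Finite S] {R : Subgroup Ω} (hR : R ≤ S)
    (h : S ≤ Subgroup.normalizer (R : Set Ω)) : F.IsFullyNormalized R :=
  ⟨hR, fun Q _ => by
    rw [normalizerIn_eq_self h]
    exact Subgroup.card_le_of_le (normalizerIn_le S Q)⟩

theorem isNormal_of_isCentral {Z : Subgroup Ω} (h : F.IsCentral Z) : F.IsNormal Z := by
  refine ⟨h.1, fun P φ hφ => ?_⟩
  obtain ⟨ψ, hψ, hag, hfix⟩ := h.2 P φ hφ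
  refine ⟨ψ, hψ, hag, ?_⟩
  ext y
  rw [mem_map_subgroupOf]
  constructor
  · rintro ⟨x, hx, hxZ, rfl⟩
    have := hfix ⟨x, hxZ⟩
    exact (show ψ ⟨x, hx⟩ = x from this).symm ▸ hxZ
  · intro hy
    exact ⟨y, le_sup_right (a := P) hy, hy, hfix ⟨y, hy⟩⟩

/-- Automorphisms extend from a normal subgroup to its product with the centralizer. -/
theorem exists_outer_extension [Finite S] [Fact p.Prime] (hS : IsPGroup p S) (hF : F.IsSaturated p)
    {Q : Subgroup Ω} (hQS : Q ≤ S) (hQn : S ≤ Subgroup.normalizer (Q : Set Ω))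
    {α : MulAut Q} (hα : α ∈ F.autGroup Q) (hout : α ∉ autInducedBy S Q) : HasOuter F := by
  set C := centralizerIn S Q with hC
  set R := Q ⊔ C with hR
  have hRS : R ≤ S := sup_le hQS (centralizerIn_le S Q)
  have hCn : S ≤ Subgroup.normalizer (C : Set Ω) := fun g hg => by
    have : Finite C := finite_of_le (centralizerIn_le S Q)
    refine Subgroup.mem_normalizer_fintype fun c hc => ⟨S.mul_mem (S.mul_mem hg hc.1) (S.inv_mem hg),
      Subgroup.mem_centralizer_iff.2 fun q hq => ?_⟩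
    have h1 := (Subgroup.mem_normalizer_iff.1 (inv_mem (hQn hg)) q).1 hq
    rw [inv_inv] at h1
    have h2 := Subgroup.mem_centralizer_iff.1 hc.2 _ h1
    have h3 := congrArg (fun t => g * t * g⁻¹) h2
    simpa [mul_assoc] using h3
  have hRn : S ≤ Subgroup.normalizer (R : Set Ω) := fun g hg =>
    Subgroup.mem_normalizer_iff_map_conj_eq.2 (by
      rw [hR, Subgroup.map_sup, Subgroup.mem_normalizer_iff_map_conj_eq.1 (hQn hg),
        Subgroup.mem_normalizer_iff_map_conj_eq.1 (hCn hg)])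
  refine ⟨R, hRS, hRn, fun c hc => le_sup_right (a := Q) (b := C)
    ⟨hc.1, Subgroup.centralizer_le (SetLike.coe_subset_coe.2 le_sup_left) hc.2⟩, ?_⟩
  have : Finite R := finite_of_le hRS
  have hα' : IsFIso F (α : Q ≃* Q) := (mem_autGroup_iff hQS).1 hα
  set φ := Q.subtype.comp α.toMonoidHom with hφ
  obtain ⟨ψ, hψ, hag⟩ :=
    (isReceptive_of_isFullyNormalized hS hF (isFullyNormalized_of_normal hQS hQn)).2 Q φ hα'
      (range_subtype_comp _)
  have hle : R ≤ extender S Q φ := sup_le (le_extender hQS fun x => hQS (α x).2) (centralizerIn_le_extender φ)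
  set χ := ψ.comp (Subgroup.inclusion hle) with hχ
  have hχm : χ ∈ F.Hom R := restrict_mem hψ hle
  have hχQ : ∀ x : Q, χ (Subgroup.inclusion le_sup_left x) = ((α x : Q) : Ω) := fun x =>
    hag x x.2 _
  have hrange : χ.range = R := by
    refine range_eq_of_le (hom_inj hχm) fun x => ?_
    have hcl : R ≤ Subgroup.map R.subtype (R.comap χ) := by
      refine sup_le (fun q hq => ?_) (fun c hc => ?_)
      · refine ⟨⟨q, le_sup_left (b := C) hq⟩, ?_, rfl⟩
        show χ _ ∈ R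
        have := hχQ ⟨q, hq⟩
        exact le_sup_left (b := C) (this.symm ▸ (α ⟨q, hq⟩).2)
      · refine ⟨⟨c, le_sup_right (a := Q) hc⟩, ?_, rfl⟩
        show χ _ ∈ R
        refine le_sup_right (a := Q) ⟨map_mem hχm _, Subgroup.mem_centralizer_iff.2 fun q hq => ?_⟩
        obtain ⟨⟨x, hx⟩, hxq⟩ := α.surjective ⟨q, hq⟩
        have h1 : χ (Subgroup.inclusion le_sup_left ⟨x, hx⟩) = q := by
          rw [hχQ, hxq]
        rw [← h1, ← map_mul, ← map_mul]
        exact congrArg χ (Subtype.ext (Subgroup.mem_centralizer_iff.1 hc.2 x hx))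
    obtain ⟨y, hy, hyx⟩ := hcl x.2
    rw [← Subtype.ext (a1 := y) (a2 := x) hyx]
    exact hy
  obtain ⟨β, hβ, hβv⟩ := exists_aut hχm hrange
  refine ⟨β, hβ, fun hin => hout ?_⟩
  obtain ⟨g, hg, hv⟩ := mem_autInducedBy_iff.1 hin
  refine mem_autInducedBy_iff.2 ⟨g, hg, fun x => ?_⟩
  have h1 := hv (Subgroup.inclusion le_sup_left x)
  rw [hβv, hχQ] at h1
  exact h1

/-- If `Z` is central and the quotient system is inner, then the system is inner. -/
theorem eq_inner_of_factor [Finite S] [Fact p.Prime] (hS : IsPGroup p S) (hF : F.IsSaturated p)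
    {Z : Subgroup Ω} (hZ : F.IsCentral Z) (hZc : Z ≤ Subgroup.centralizer (S : Set Ω))
    {Ω' : Type u} [Group Ω'] {S' : Subgroup Ω'} {E : Cfsg.FusionSystem S'} {θ : S →* Ω'}
    (hE : F.IsFactorSystem Z θ E) (hin : ∀ P, E.Hom P ⊆ (Cfsg.innerFusionSystem S').Hom P) :
    F = Cfsg.innerFusionSystem S := by
  refine eq_inner_of_isPGroup hS hF fun P hPS a => ?_
  obtain ⟨-, hθ, hr, hmem⟩ := hE
  have hφ := (mem_autGroup_iff_hom hPS).1 a.2
  obtain ⟨φ', hφ', hP0, hφ0, hP1, hval⟩ :=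
    (CfsgLib.FusionQuot.isSurjectiveMorphism_factor hS hF
      (isNormal_stronglyClosed (isNormal_of_isCentral hZ)) θ E ⟨hZ.1, hθ, hr, hmem⟩).1.2 P _ hφ
  obtain ⟨-, g', hg', hconj⟩ := hin _ hφ'
  rw [← hr] at hg'
  obtain ⟨g, rfl⟩ := hg'
  set α : MulAut P := (a : MulAut P) with hα
  -- `α` is conjugation by `g` modulo `Z`
  have hone : ∀ x : P, ∃ z ∈ Z, ((α x : P) : Ω) = (g : Ω) * (x : Ω) * (g : Ω)⁻¹ * z := by
    intro x
    have h1 := hconj ⟨θ ⟨x, hP0 x.2⟩, hP1 x⟩
    rw [hval x] at h1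
    have h2 : θ ((g * ⟨(x : Ω), hP0 x.2⟩ * g⁻¹)⁻¹ * ⟨((α x : P) : Ω), hP0 (α x).2⟩) = 1 := by
      rw [map_mul, map_inv, map_mul, map_mul, map_inv, inv_mul_eq_one]
      exact h1.symm
    refine ⟨_, (hθ _).1 h2, ?_⟩
    simp [mul_assoc]
  have hzc : ∀ z ∈ Z, ∀ s ∈ S, s * z = z * s := fun z hz s hs =>
    Subgroup.mem_centralizer_iff.1 (hZc hz) s hs
  have hfix : ∀ (b : MulAut P), b ∈ F.autGroup P → ∀ x : P, (x : Ω) ∈ Z → b x = x := by
    intro b hb x hx
    obtain ⟨ψ, hψ, hag, hfix⟩ := hZ.2 P _ ((mem_autGroup_iff_hom hPS).1 hb)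
    refine Subtype.ext ((hag x).symm.trans ?_)
    exact (congrArg ψ (Subtype.ext rfl)).trans (hfix ⟨x, hx⟩)
  have hit : ∀ (k : ℕ) (x : P), ∃ z ∈ Z,
      (((α ^ k) x : P) : Ω) = (g : Ω) ^ k * (x : Ω) * ((g : Ω) ^ k)⁻¹ * z := by
    intro k
    induction k with
    | zero => exact fun x => ⟨1, one_mem Z, by simp⟩
    | succ k ih =>
      intro x
      obtain ⟨z, hz, h⟩ := ih x
      obtain ⟨w, hw, h'⟩ := hone ((α ^ k) x)
      refine ⟨z * w, mul_mem hz hw, ?_⟩
      rw [pow_succ', MulAut.mul_apply, h', h, pow_succ']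
      have e : z * (g : Ω)⁻¹ = (g : Ω)⁻¹ * z := (hzc z hz _ (S.inv_mem g.2)).symm
      simp only [mul_inv_rev, mul_assoc]
      rw [← mul_assoc z, e]
      simp only [mul_assoc]
  obtain ⟨m, hm⟩ := hS g
  have hgm : (g : Ω) ^ p ^ m = 1 := congrArg Subtype.val hm
  set γ : MulAut P := α ^ p ^ m with hγ
  have hd : ∀ x : P, ((x⁻¹ * γ x : P) : Ω) ∈ Z := by
    intro x
    obtain ⟨z, hz, h⟩ := hit (p ^ m) x
    rw [Subgroup.coe_mul, Subgroup.coe_inv, hγ, h, hgm]
    simpa using hz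
  obtain ⟨e, he⟩ := IsPGroup.iff_card.1 hS
  refine ⟨m + e, Subtype.ext (MulEquiv.ext fun x => ?_)⟩
  have hk : ∀ k : ℕ, (γ ^ k) x = x * (x⁻¹ * γ x) ^ k := by
    intro k
    induction k with
    | zero => simp
    | succ k ih =>
      rw [pow_succ', MulAut.mul_apply, ih, map_mul, map_pow,
        hfix γ (pow_mem a.2 _) _ (hd x), pow_succ', ← mul_assoc, mul_inv_cancel_left]
  have hcard : (x⁻¹ * γ x) ^ p ^ e = 1 := by
    apply Subtype.ext
    have h1 : (⟨((x⁻¹ * γ x : P) : Ω), hPS (x⁻¹ * γ x).2⟩ : S) ^ Nat.card S = 1 := pow_card_eq_one'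
    rw [he] at h1
    simpa using congrArg Subtype.val h1
  show (((a : F.autGroup P) ^ p ^ (m + e) : F.autGroup P) : MulAut P) x = x
  rw [SubgroupClass.coe_pow, pow_add, pow_mul, ← hα, ← hγ, hk, hcard, mul_one]

/-- Outer automorphisms lift from the quotient by a central subgroup. -/
theorem hasOuter_of_factor [Finite S] {Z : Subgroup Ω}
    {Ω' : Type u} [Group Ω'] {S' : Subgroup Ω'} {E : Cfsg.FusionSystem S'} {θ : S →* Ω'}
    (hE : F.IsFactorSystem Z θ E) (h : HasOuter E) : HasOuter F := by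
  obtain ⟨R', hR'S, hR'n, hR'c, α', hα', hout⟩ := h
  obtain ⟨-, hθ, hr, hmem⟩ := hE
  set R := preimageAlong θ R' with hR
  have hRS : R ≤ S := CfsgLib.FusionQuot.preimageAlong_le _
  have hθS : ∀ s : S, θ s ∈ S' := fun s => hr ▸ ⟨s, rfl⟩
  have hiff : ∀ s : S, (s : Ω) ∈ R ↔ θ s ∈ R' := fun s => by
    rw [hR, CfsgLib.FusionQuot.mem_preimageAlong]
    exact ⟨fun ⟨_, h⟩ => h, fun h => ⟨s.2, h⟩⟩
  refine ⟨R, hRS, ?_, ?_, ?_⟩
  · intro g hg
    have : Finite R := finite_of_le hRS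
    refine Subgroup.mem_normalizer_fintype fun x hx => ?_
    have h1 := (Subgroup.mem_normalizer_iff.1 (hR'n (hθS ⟨g, hg⟩)) _).1
      ((hiff ⟨x, hRS hx⟩).1 hx)
    rw [← map_inv, ← map_mul, ← map_mul] at h1
    exact (hiff (⟨g, hg⟩ * ⟨x, hRS hx⟩ * ⟨g, hg⟩⁻¹)).2 h1
  · intro c hc
    refine (hiff ⟨c, hc.1⟩).2 (hR'c ⟨hθS _, Subgroup.mem_centralizer_iff.2 fun y hy => ?_⟩)
    obtain ⟨x, rfl⟩ : y ∈ θ.range := hr.symm ▸ hR'S hy
    rw [← map_mul, ← map_mul]
    exact congrArg θ (Subtype.ext (Subgroup.mem_centralizer_iff.1 hc.2 x ((hiff x).2 hy)))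
  obtain ⟨-, φ, hφ, hP0, hφ0, hP1, hval⟩ :=
    (hmem R' _).1 ((mem_autGroup_iff_hom hR'S).1 hα')
  have : Finite R := finite_of_le hRS
  have hrange : φ.range = R := by
    refine range_eq_of_le (hom_inj hφ) fun x => (hiff ⟨φ x, hφ0 x⟩).2 ?_
    rw [← hval x]
    exact (α' _).2
  obtain ⟨β, hβ, hβv⟩ := exists_aut hφ hrange
  refine ⟨β, hβ, fun hin => hout ?_⟩
  obtain ⟨g, hg, hv⟩ := mem_autInducedBy_iff.1 hin
  refine mem_autInducedBy_iff.2 ⟨θ ⟨g, hg⟩, hθS _, fun y => ?_⟩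
  obtain ⟨x, hx⟩ : (y : Ω') ∈ θ.range := hr.symm ▸ hR'S y.2
  have hxR : (x : Ω) ∈ R := (hiff x).2 (hx ▸ y.2)
  have h1 := hval ⟨x, hxR⟩
  have h2 := hv ⟨x, hxR⟩
  rw [hβv] at h2
  have e : (⟨θ ⟨(x : Ω), hP0 hxR⟩, hP1 ⟨x, hxR⟩⟩ : R') = y := Subtype.ext hx
  rw [e] at h1
  refine h1.trans ?_
  rw [← hx, ← map_inv, ← map_mul, ← map_mul]
  exact congrArg θ (Subtype.ext h2)

theorem exists_outer_aux [hp : Fact p.Prime] (hp2 : p ≠ 2) :
    ∀ (n : ℕ) (Ω : Type u) [Group Ω] (S : Subgroup Ω) [Finite S] (F : Cfsg.FusionSystem S),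
      Nat.card S = n → IsPGroup p S → F.IsSaturated p →
      ¬ (∀ P, F.Hom P = (Cfsg.innerFusionSystem S).Hom P) → HasOuter F := by
  intro n
  induction n using Nat.strong_induction_on with
  | _ n ih =>
  intro Ω _ S _ F hn hS hF hne
  set Q := Cfsg.centerThompsonAOf S with hQ
  have hQS : Q ≤ S := by
    rw [hQ, ← CfsgLib.FusionControl.zjW_map S]
    exact Subgroup.map_subtype_le _
  have hQn : S ≤ Subgroup.normalizer (Q : Set Ω) := by
    rw [hQ, ← CfsgLib.FusionControl.zjW_map S, CfsgLib.FusionControl.zjW,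
      CfsgLib.ZJCenter.zj_map S.subtype_injective, ← MonoidHom.range_eq_map, Subgroup.range_subtype]
    exact Subgroup.le_normalizer.trans (CfsgLib.ZJCenter.normalizer_le_normalizer_zj 0 S)
  have hN : normalizerIn S Q = S := normalizerIn_eq_self hQn
  by_cases hA : ∃ α ∈ F.autGroup Q, α ∉ autInducedBy S Q
  · obtain ⟨α, hα, hout⟩ := hA
    exact exists_outer_extension hS hF hQS hQn hα hout
  push Not at hA
  set N := normalizerSystem F Q hQS with hNdef
  set F1 := copyOver N hN with hF1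
  have hF1s : F1.IsSaturated p := (isSaturated_copyOver N hN).2
    (isSaturated_normalizerSystem hS hF (isFullyNormalized_of_normal hQS hQn)
      (isNormalizerSystem_normalizerSystem F Q hQS))
  have hF1le : ∀ P, F1.Hom P ⊆ F.Hom P := fun P φ hφ =>
    ((isNormalizerSystem_normalizerSystem F Q hQS P).subset hφ).1
  -- the normalizer system is not inner
  have hne1 : ¬ ∀ P, F1.Hom P = (Cfsg.innerFusionSystem S).Hom P := by
    intro h
    refine hne ((Cfsg.Agent.S5204.result p hS F hF hp2).2 fun M hM P => ?_)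
    rw [hM P, ← isNormalizerSystem_normalizerSystem F Q hQS P]
    exact (h P).trans (inner_hom_congr hN.symm P)
  -- central elements of `S` inside `Q` are fixed
  set Z := Q ⊓ Subgroup.centralizer (S : Set Ω) with hZdef
  have hZc : Z ≤ Subgroup.centralizer (S : Set Ω) := inf_le_right
  have hZS : Z ≤ S := inf_le_left.trans hQS
  have hZcentral : F1.IsCentral Z := by
    refine ⟨hZS, fun P φ hφ => ?_⟩
    obtain ⟨hφF, hP, hv, ψ, hψ, hag, hQψ⟩ := (isNormalizerSystem_normalizerSystem F Q hQS P).subset hφ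
    have hle : P ⊔ Z ≤ P ⊔ Q := sup_le_sup_left inf_le_left P
    have hPS : P ⊔ Q ≤ normalizerIn S Q := sup_le hP (le_normalizerIn hQS)
    have : Finite Q := finite_of_le hQS
    obtain ⟨β, hβ, hβv⟩ := exists_aut (restrict_mem hψ (le_sup_right : Q ≤ P ⊔ Q))
      ((range_comp_inclusion le_sup_right).trans hQψ)
    obtain ⟨g, hg, hgv⟩ := mem_autInducedBy_iff.1 (hA β hβ)
    have hfix : ∀ x : Z, ψ (Subgroup.inclusion hle (Subgroup.inclusion le_sup_right x)) = x := by
      intro x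
      have h1 : ψ (Subgroup.inclusion (le_sup_right : Q ≤ P ⊔ Q) ⟨x, x.2.1⟩) =
          g * (x : Ω) * g⁻¹ := (hβv ⟨x, x.2.1⟩).symm.trans (hgv ⟨x, x.2.1⟩)
      rw [Subgroup.mem_centralizer_iff.1 (hZc x.2) g hg, mul_inv_cancel_right] at h1
      exact h1
    refine ⟨ψ.comp (Subgroup.inclusion hle), ?_, fun x => hag x, hfix⟩
    refine (isNormalizerSystem_normalizerSystem F Q hQS (P ⊔ Z)).symm.subset
      ⟨restrict_mem hψ hle, hle.trans hPS, ?_, ψ.comp (Subgroup.inclusion ?_), restrict_mem hψ ?_,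
        fun x => rfl, ?_⟩
    · exact forall_mem_of_sup (fun x => by
        show ψ (Subgroup.inclusion le_sup_left x) ∈ _
        rw [hag]; exact hv x) fun x => by
        show ψ (Subgroup.inclusion hle (Subgroup.inclusion le_sup_right x)) ∈ _
        rw [hfix x]; exact le_normalizerIn hQS x.2.1
    · exact sup_le hle le_sup_right
    · exact sup_le hle le_sup_right
    · ext z
      rw [mem_map_subgroupOf]
      constructor
      · rintro ⟨x, hx, hxQ, rfl⟩
        exact hQψ.le ⟨⟨x, le_sup_right (a := P) hxQ⟩, hxQ, rfl⟩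
      · intro hz
        obtain ⟨x, hx, hxQ, hxz⟩ := mem_map_subgroupOf.1 (hQψ.ge hz)
        exact ⟨x, le_sup_right (a := P ⊔ Z) hxQ, hxQ, hxz⟩
  have hSne : S ≠ ⊥ := by
    intro h0
    refine hne1 fun P => ?_
    rw [eq_inner_of_isPGroup hS hF1s fun R hR => ?_]
    subst h0
    have : Subsingleton R := ⟨fun x y => Subtype.ext (by
      rw [Subgroup.mem_bot.1 (hR x.2), Subgroup.mem_bot.1 (hR y.2)])⟩
    exact fun a => ⟨0, Subtype.ext (MulEquiv.ext fun x => Subsingleton.elim _ _)⟩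
  have hZne : Z ≠ ⊥ := by
    have : Nontrivial S := (Subgroup.nontrivial_iff_ne_bot S).2 hSne
    have hW := CfsgLib.FusionControl.zjW_ne_bot (p := p) S hS inferInstance
    have : (CfsgLib.FusionControl.zjW S).Normal := by
      rw [CfsgLib.FusionControl.zjW, ← Subgroup.normalizer_eq_top_iff, eq_top_iff]
      exact Subgroup.le_normalizer.trans (CfsgLib.ZJCenter.normalizer_le_normalizer_zj 0 ⊤)
    have : Group.IsNilpotent S := hS.isNilpotent
    intro hbot
    refine CfsgLib.Transfer.inf_center_ne_bot hW (eq_bot_iff.2 fun x hx => ?_)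
    have : (x : Ω) ∈ Z := ⟨by
      rw [hQ, ← CfsgLib.FusionControl.zjW_map S]
      exact ⟨x, hx.1, rfl⟩, Subgroup.mem_centralizer_iff.2 fun s hs =>
        congrArg Subtype.val (Subgroup.mem_center_iff.1 hx.2 ⟨s, hs⟩)⟩
    rw [hbot, Subgroup.mem_bot] at this
    exact Subtype.ext this
  have : (Z.subgroupOf S).Normal := ⟨fun x hx g => by
    have hc : (g : Ω) * (x : Ω) = (x : Ω) * (g : Ω) :=
      Subgroup.mem_centralizer_iff.1 (hZc (Subgroup.mem_subgroupOf.1 hx)) g g.2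
    have : g * x * g⁻¹ = x := Subtype.ext (by
      rw [Subgroup.coe_mul, Subgroup.coe_mul, Subgroup.coe_inv, hc, mul_inv_cancel_right])
    rwa [this]⟩
  have hsc := isNormal_stronglyClosed (isNormal_of_isCentral hZcentral)
  obtain ⟨E, hE⟩ := CfsgLib.FusionQuot.exists_factorSystem_quotient F1 Z hsc
  have hEs := CfsgLib.FusionQuot.isSaturated_factor hS hF1s hsc hE
  have hEp := CfsgLib.FusionQuot.isPGroup_of_isFactorSystem hS hE
  have hlt : Nat.card (⊤ : Subgroup (S ⧸ Z.subgroupOf S)) < n := by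
    rw [Subgroup.card_top, ← hn, ← Subgroup.card_mul_index (Z.subgroupOf S), ← Subgroup.index_eq_card]
    refine lt_mul_left (Nat.pos_of_ne_zero Subgroup.index_ne_zero_of_finite) ?_
    refine (Subgroup.one_lt_card_iff_ne_bot _).2 fun h0 => hZne ?_
    rw [Subgroup.subgroupOf_eq_bot, disjoint_iff, inf_eq_left.2 hZS] at h0
    exact h0
  have hEout : HasOuter E := by
    refine ih _ hlt (S ⧸ Z.subgroupOf S) ⊤ E rfl hEp hEs fun hin => hne1 fun P => ?_
    rw [eq_inner_of_factor hS hF1s hZcentral hZc hE fun P' => (hin P').subset]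
  obtain ⟨R, hRS, hRn, hRc, α, hα, hout⟩ := hasOuter_of_factor hE hEout
  exact ⟨R, hRS, hRn, hRc, α,
    (mem_autGroup_iff_hom hRS).2 (hF1le R ((mem_autGroup_iff_hom hRS).1 hα)), hout⟩

/-- A non-inner saturated system over an odd prime contains a non-inner constrained one. -/
theorem exists_constrained [Fact p.Prime] (hp2 : p ≠ 2) [Finite S] (hS : IsPGroup p S)
    (hF : F.IsSaturated p) (hne : ∃ P, F.Hom P ≠ (Cfsg.innerFusionSystem S).Hom P) :
    ∃ E : Cfsg.FusionSystem S, E ≤ F ∧ E.IsConstrained p ∧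
      ∃ P, E.Hom P ≠ (Cfsg.innerFusionSystem S).Hom P := by
  obtain ⟨R, hRS, hRn, hRc, α, hα, hout⟩ := exists_outer_aux hp2 _ Ω S F rfl hS hF fun h => by
    obtain ⟨P, hP⟩ := hne
    exact hP (h P)
  have hN : normalizerIn S R = S := normalizerIn_eq_self hRn
  have hRfn : F.IsFullyNormalized R := isFullyNormalized_of_normal hRS hRn
  set N := normalizerSystem F R hRS with hNdef
  set E := copyOver N hN with hEdef
  have hle : E ≤ F := fun P φ hφ => ((isNormalizerSystem_normalizerSystem F R hRS P).subset hφ).1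
  refine ⟨E, hle, ⟨(isSaturated_copyOver N hN).2 (isSaturated_normalizerSystem hS hF hRfn
    (isNormalizerSystem_normalizerSystem F R hRS)), R, ⟨hRS, ?_⟩, ?_⟩, R, ?_⟩
  · exact (CfsgLib.FusionControl.isNormal_normalizer_self (E := F) hRS).2
  · exact CfsgLib.Fusion.CentricExtend.centric_sub hle (isCentric_of_isFullyCentralized hS hF
      (isFullyCentralized_of_isFullyNormalized hS hF hRfn) hRc)
  · intro h
    have : Finite R := finite_of_le hRS
    have hmap : (R.subgroupOf R).map α.toMonoidHom = R.subgroupOf R := by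
      rw [Subgroup.subgroupOf_self]
      exact Subgroup.map_top_of_surjective _ α.surjective
    obtain ⟨-, g, hg, hv⟩ := h.subset
      ((isNormalizerSystem_normalizerSystem F R hRS R).symm.subset
        (mem_normalizerHom_of_aut le_rfl (le_normalizerIn hRS) hα hmap))
    exact hout (mem_autInducedBy_iff.2 ⟨g, hg, hv⟩)

end CfsgLib.FusionConstrained
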